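import Mathlib

/-!
# TORUS, `q = 2`, `k = 2` (helper12 #22930, (4)): the end

`K` acts on five points (`K ⧸ N`), `E ⊴ K`, `W ⊴ K` (the natural module of `K`, centralised by `E`), `W₂ ≤ E`, `V₂ ≤ W₂`
of order `4` centralised by `K`, `E` acts on `W₂` through maps which are trivial or have fixed points `V₂` only, `N`
normalises `W₂ (W V₂)` elementwise, `A` is elementary abelian, `A ∩ E` has index `4` in `A`, `A` is regular on the four
other points and every involution of `E` commuting with `A ∩ E` lies in `(A ∩ E) W`.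

Then every conjugate `x w x⁻¹` (`w ∈ W₂`, `x ∈ K`) lies in `w (W V₂)`: so `K` normalises `W W₂`.
-/

set_option autoImplicit false
set_option linter.unusedSectionVars false

namespace Cfsg.Agent.Omega.OM.Lev.Low.Torus.End

open Subgroup

/-! ### five points -/

theorem five_const {K : Type*} [Group K] (N : Subgroup K) [Fintype (K ⧸ N)] [DecidableEq (K ⧸ N)] {M : Type*}
    [CommGroup M] (φ : K → M →* M) (F : K ⧸ N → M) (hF : ∀ (g : K) (p : K ⧸ N), F (g • p) = φ g (F p))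
    (h : ∏ p ∈ Finset.univ.erase ((1 : K) : K ⧸ N), F p = 1) (g : K) :
    F (g : K ⧸ N) = F ((1 : K) : K ⧸ N) := by
  have h1 : ∏ q ∈ Finset.univ.erase ((g : K) : K ⧸ N), F q = 1 := by
    rw [← map_one (φ g), ← h, map_prod]
    symm
    refine Finset.prod_bij (fun p _ => g • p) ?_ ?_ ?_ ?_
    · intro p hp
      rw [Finset.mem_erase] at hp ⊢
      refine ⟨fun h' => hp.1 ?_, Finset.mem_univ _⟩
      have h2 : g • p = g • ((1 : K) : K ⧸ N) := by
        rw [h', MulAction.Quotient.smul_coe]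
        simp
      exact MulAction.injective g h2
    · intro p _ q _ hpq
      exact MulAction.injective g hpq
    · intro q hq
      refine ⟨g⁻¹ • q, ?_, by simp⟩
      rw [Finset.mem_erase] at hq ⊢
      refine ⟨fun h' => hq.1 ?_, Finset.mem_univ _⟩
      have h2 : q = g • ((1 : K) : K ⧸ N) := by
        rw [← h']
        simp
      rw [h2, MulAction.Quotient.smul_coe]
      simp
    · intro p _
      exact (hF g p).symm
  have h2 := Finset.mul_prod_erase Finset.univ F (Finset.mem_univ ((g : K) : K ⧸ N))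
  have h3 := Finset.mul_prod_erase Finset.univ F (Finset.mem_univ ((1 : K) : K ⧸ N))
  rw [h1, mul_one] at h2
  rw [h, mul_one] at h3
  rw [h2, h3]

/-! ### four cosets -/

theorem four {K : Type*} [Group K] {A D : Subgroup K} (hsq : ∀ a ∈ A, a * a ∈ D)
    (h4 : D.relIndex A = 4) :
    ∃ a ∈ A, ∃ b ∈ A, a ∉ D ∧ b ∉ D ∧ a * b ∉ D ∧
      ∀ c ∈ A, c ∈ D ∨ a * c ∈ D ∨ b * c ∈ D ∨ a * b * c ∈ D := by
  classical
  have hc : ∀ c ∈ A, ∀ d ∈ A, c⁻¹ * d ∈ D ↔ c * d ∈ D := by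
    intro c hc d hd
    have e : c * d = (c * c) * (c⁻¹ * d) := by group
    rw [e, Subgroup.mul_mem_cancel_left _ (hsq c hc)]
  set Q := A ⧸ D.subgroupOf A with hQ
  have hcard : Nat.card Q = 4 := by
    rw [hQ, ← Subgroup.index_eq_card]
    exact h4
  have : Finite Q := Nat.finite_of_card_ne_zero (by rw [hcard]; norm_num)
  have : Fintype Q := Fintype.ofFinite Q
  have hcard' : Fintype.card Q = 4 := by rw [← Nat.card_eq_fintype_card, hcard]
  have hmk : ∀ x y : A, ((x : Q) = (y : Q)) ↔ (x : K) * (y : K) ∈ D := by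
    intro x y
    rw [QuotientGroup.eq, mem_subgroupOf]
    exact hc x x.2 y y.2
  obtain ⟨qa, hqa⟩ : ∃ q : Q, q ≠ ((1 : A) : Q) := by
    by_contra h0
    push Not at h0
    have : Fintype.card Q ≤ 1 := Fintype.card_le_one_iff.2 fun x y => (h0 x).trans (h0 y).symm
    omega
  obtain ⟨a, rfl⟩ := QuotientGroup.mk_surjective qa
  obtain ⟨qb, hqb⟩ : ∃ q : Q, q ∉ ({((1 : A) : Q), (a : Q)} : Finset Q) := by
    by_contra h0
    push Not at h0
    have h1 : (Finset.univ : Finset Q) ⊆ {((1 : A) : Q), (a : Q)} := fun x _ => h0 x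
    have h2 := Finset.card_le_card h1
    have h3 : ({((1 : A) : Q), (a : Q)} : Finset Q).card ≤ 2 := Finset.card_le_two
    rw [Finset.card_univ] at h2
    omega
  obtain ⟨b, rfl⟩ := QuotientGroup.mk_surjective qb
  rw [Finset.mem_insert, Finset.mem_singleton, not_or] at hqb
  have ha : (a : K) ∉ D := by
    intro h
    apply hqa
    rw [hmk]
    simpa using h
  have hb : (b : K) ∉ D := by
    intro h
    apply hqb.1
    rw [hmk]
    simpa using h
  have hba : (b : K) * (a : K) ∉ D := fun h => hqb.2 ((hmk b a).2 h)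
  have hab : (a : K) * (b : K) ∉ D := by
    intro h
    apply hqb.2
    exact ((hmk a b).2 h).symm
  refine ⟨a, a.2, b, b.2, ha, hb, hab, ?_⟩
  have hba' : ((b⁻¹ * a⁻¹ : A) : Q) = ((a * b : A) : Q) := by
    rw [hmk]
    have e : ((b⁻¹ * a⁻¹ : A) : K) * ((a * b : A) : K) = 1 := by
      push_cast
      group
    rw [e]
    exact D.one_mem
  have hset : ({((1 : A) : Q), (a : Q), (b : Q), ((b⁻¹ * a⁻¹ : A) : Q)} : Finset Q) = Finset.univ := by
    apply Finset.eq_univ_of_card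
    rw [hcard', Finset.card_insert_of_notMem, Finset.card_insert_of_notMem, Finset.card_insert_of_notMem,
      Finset.card_singleton]
    · rw [Finset.mem_singleton, hmk]
      intro h
      push_cast at h
      have e : (b : K) * ((b : K)⁻¹ * (a : K)⁻¹) = (a : K)⁻¹ := by group
      rw [e, inv_mem_iff] at h
      exact ha h
    · rw [Finset.mem_insert, Finset.mem_singleton, not_or]
      refine ⟨fun h => hqb.2 h.symm, ?_⟩
      rw [hba', QuotientGroup.eq, mem_subgroupOf]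
      push_cast
      intro h
      have e : (a : K)⁻¹ * ((a : K) * (b : K)) = (b : K) := by group
      rw [e] at h
      exact hb h
    · rw [Finset.mem_insert, Finset.mem_insert, Finset.mem_singleton, not_or, not_or]
      refine ⟨fun h => hqa h.symm, fun h => hqb.1 h.symm, ?_⟩
      rw [hba', hmk]
      push_cast
      rw [one_mul]
      exact hab
  intro c hc'
  have h1 : ((⟨c, hc'⟩ : A) : Q) ∈ (Finset.univ : Finset Q) := Finset.mem_univ _
  rw [← hset, Finset.mem_insert, Finset.mem_insert, Finset.mem_insert, Finset.mem_singleton] at h1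
  rcases h1 with h | h | h | h
  · left
    rw [hmk] at h
    simpa using h
  · right; left
    exact (hmk a ⟨c, hc'⟩).1 h.symm
  · right; right; left
    exact (hmk b ⟨c, hc'⟩).1 h.symm
  · right; right; right
    rw [hba'] at h
    have := (hmk (a * b) ⟨c, hc'⟩).1 h.symm
    push_cast at this
    exact this


/-! ### commutators -/

/-- `[u, t] = u t u⁻¹ t⁻¹`. -/
def co {K : Type*} [Group K] (u t : K) : K := u * t * u⁻¹ * t⁻¹

section Co

variable {K : Type*} [Group K]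

theorem co_eq_one {u t : K} : co u t = 1 ↔ u * t = t * u := by
  unfold co
  rw [mul_inv_eq_one, mul_inv_eq_iff_eq_mul]

theorem co_self (u : K) : co u u = 1 := co_eq_one.2 rfl

theorem co_conj (g u t : K) : co (g * u * g⁻¹) (g * t * g⁻¹) = g * co u t * g⁻¹ := by
  unfold co
  group

theorem co_conj_cen {g u t : K} (h : co u t ∈ center K) : co (g * u * g⁻¹) (g * t * g⁻¹) = co u t := by
  rw [co_conj, mem_center_iff.1 h g, mul_inv_cancel_right]

theorem co_inv (u t : K) : (co u t)⁻¹ = co t u := by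
  unfold co
  group

theorem co_mul_right {u t t' : K} (h : co u t' ∈ center K) : co u (t * t') = co u t * co u t' := by
  have e : co u (t * t') = (u * t * u⁻¹) * co u t' * t⁻¹ := by
    unfold co
    group
  rw [e, mem_center_iff.1 h]
  have e2 : co u t * co u t' = co u t' * co u t := mem_center_iff.1 h _
  rw [e2]
  unfold co
  group

theorem co_mul_left {u u' t : K} (h : co u' t ∈ center K) : co (u * u') t = co u t * co u' t := by
  have e : co (u * u') t = u * co u' t * (t * u⁻¹ * t⁻¹) := by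
    unfold co
    group
  rw [e, mem_center_iff.1 h]
  have e2 : co u t * co u' t = co u' t * co u t := mem_center_iff.1 h _
  rw [e2]
  unfold co
  group

theorem sq_three {u v w a b c : K} (ha : a ∈ center K) (hb : b ∈ center K) (hc : c ∈ center K)
    (hu : u * u = 1) (hv : v * v = 1) (hw : w * w = 1) (huv : co u v = a) (huw : co u w = b) (hvw : co v w = c) :
    (u * v * w) * (u * v * w) = a * b * c := by
  have e1 : u * v = a * (v * u) := by
    rw [← huv]; unfold co; group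
  have e2 : u * w = b * (w * u) := by
    rw [← huw]; unfold co; group
  have e3 : v * w = c * (w * v) := by
    rw [← hvw]; unfold co; group
  have ca : ∀ x, x * a = a * x := mem_center_iff.1 ha
  have cb : ∀ x, x * b = b * x := mem_center_iff.1 hb
  have cc : ∀ x, x * c = c * x := mem_center_iff.1 hc
  calc (u * v * w) * (u * v * w) = (u * v) * w * (u * v) * w := by group
    _ = (a * (v * u)) * w * (u * v) * w := by rw [← e1]
    _ = a * (v * (u * w) * (u * v) * w) := by group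
    _ = a * (v * (b * (w * u)) * (u * v) * w) := by rw [e2]
    _ = a * (b * (v * w * (u * u) * v * w)) := by
        congr 1
        rw [← mul_assoc v b, cb v]
        group
    _ = a * (b * ((v * w) * v * w)) := by rw [hu]; group
    _ = a * (b * ((c * (w * v)) * v * w)) := by rw [← e3]
    _ = a * (b * (c * (w * (v * v) * w))) := by group
    _ = a * b * c := by
        rw [hv, mul_one, hw]
        group

end Co

/-! ### the frame -/

/-- The facts used at the end of TORUS, `k = 2`. -/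
structure EndD {K : Type*} [Group K] (E W W₂ V₂ N A : Subgroup K) : Prop where
  nE : E.Normal
  nW : W.Normal
  WE : W ≤ E
  W2E : W₂ ≤ E
  V2W : V₂ ≤ W₂
  cV2 : V₂ ≤ center K
  cW : ∀ e ∈ E, ∀ w ∈ W, e * w = w * e
  sq : ∀ w ∈ W₂, w * w = 1
  cardV : Nat.card V₂ = 4
  idx : V₂.relIndex W₂ = 4
  cm : ∀ e ∈ E, ∀ w ∈ W₂, co e w ∈ V₂
  ns : ∀ e ∈ E, (∀ w ∈ W₂, e * w = w * e) ∨ (∀ w ∈ W₂, e * w = w * e → w ∈ V₂)
  hN : ∀ n ∈ N, ∀ w ∈ W₂, n * w * n⁻¹ * w⁻¹ ∈ W ⊔ V₂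
  EN : E ≤ N
  AN : A ≤ N
  sqA : ∀ a ∈ A, a * a = 1
  tr : ∀ x, x ∉ N → ∀ y, y ∉ N → ∃ a ∈ A, y⁻¹ * (a * x) ∈ N
  reg : ∀ x, x ∉ N → ∀ a ∈ A, x⁻¹ * (a * x) ∈ N → a ∈ E
  a4 : (A ⊓ E).relIndex A = 4
  mx : ∀ y ∈ E, y * y = 1 → (∀ c ∈ A ⊓ E, y * c = c * y) → y ∈ (A ⊓ E) ⊔ W

namespace EndD

variable {K : Type*} [Group K] {E W W₂ V₂ N A : Subgroup K} (X : EndD E W W₂ V₂ N A)

include X

theorem comA {a b : K} (ha : a ∈ A) (hb : b ∈ A) : a * b = b * a := by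
  have h1 := X.sqA _ (A.mul_mem ha hb)
  have h2 := X.sqA a ha
  have h3 := X.sqA b hb
  calc a * b = (a * b)⁻¹ := (inv_eq_of_mul_eq_one_left h1).symm
    _ = b⁻¹ * a⁻¹ := mul_inv_rev a b
    _ = b * a := by rw [inv_eq_of_mul_eq_one_left h2, inv_eq_of_mul_eq_one_left h3]

theorem comW2 {a b : K} (ha : a ∈ W₂) (hb : b ∈ W₂) : a * b = b * a := by
  have h1 := X.sq _ (W₂.mul_mem ha hb)
  have h2 := X.sq a ha
  have h3 := X.sq b hb
  calc a * b = (a * b)⁻¹ := (inv_eq_of_mul_eq_one_left h1).symm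
    _ = b⁻¹ * a⁻¹ := mul_inv_rev a b
    _ = b * a := by rw [inv_eq_of_mul_eq_one_left h2, inv_eq_of_mul_eq_one_left h3]

theorem cj_E {e : K} (he : e ∈ E) (x : K) : x * e * x⁻¹ ∈ E := X.nE.conj_mem e he x

theorem cj_E' {e : K} (he : e ∈ E) (x : K) : x⁻¹ * e * x ∈ E := by
  have := X.nE.conj_mem e he x⁻¹
  rwa [inv_inv] at this

theorem cZ {z : K} (hz : z ∈ W ⊔ V₂) {e : K} (he : e ∈ E) : e * z = z * e := by
  have := X.nW
  obtain ⟨w, hw, v, hv, rfl⟩ := mem_sup_of_normal_left.1 hz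
  have h1 := mem_center_iff.1 (X.cV2 hv) e
  have h2 := X.cW e he w hw
  calc e * (w * v) = (e * w) * v := by group
    _ = w * (e * v) := by rw [h2]; group
    _ = w * v * e := by rw [h1]; group

theorem ZE : W ⊔ V₂ ≤ E := sup_le X.WE (X.V2W.trans X.W2E)

theorem nZ : (W ⊔ V₂).Normal := by
  have := X.nW
  constructor
  intro z hz g
  obtain ⟨w, hw, v, hv, rfl⟩ := mem_sup_of_normal_left.1 hz
  have h1 : g * (w * v) * g⁻¹ = (g * w * g⁻¹) * v := by
    have := mem_center_iff.1 (X.cV2 hv) g⁻¹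
    calc g * (w * v) * g⁻¹ = g * w * (v * g⁻¹) := by group
      _ = g * w * (g⁻¹ * v) := by rw [this]
      _ = _ := by group
  rw [h1]
  exact mul_mem (mem_sup_left (X.nW.conj_mem w hw g)) (mem_sup_right hv)

/-- `[e, x w x⁻¹] ∈ V₂`. -/
theorem cmx {e : K} (he : e ∈ E) (x : K) {w : K} (hw : w ∈ W₂) : co e (x * w * x⁻¹) ∈ V₂ := by
  have h1 := X.cm _ (X.cj_E' he x) w hw
  have h2 : co e (x * w * x⁻¹) = x * co (x⁻¹ * e * x) w * x⁻¹ := by
    rw [← co_conj]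
    congr 1
    group
  rw [h2, mem_center_iff.1 (X.cV2 h1) x, mul_inv_cancel_right]
  exact h1

theorem cmxc {e : K} (he : e ∈ E) (x : K) {w : K} (hw : w ∈ W₂) : co e (x * w * x⁻¹) ∈ center K :=
  X.cV2 (X.cmx he x hw)

theorem memx (x : K) {w : K} (hw : w ∈ W₂) : x * w * x⁻¹ ∈ E := X.cj_E (X.W2E hw) x

theorem nsx {e : K} (he : e ∈ E) (x : K) :
    (∀ w ∈ W₂, co e (x * w * x⁻¹) = 1) ∨ (∀ w ∈ W₂, co e (x * w * x⁻¹) = 1 → w ∈ V₂) := by
  have key : ∀ w, co e (x * w * x⁻¹) = x * co (x⁻¹ * e * x) w * x⁻¹ := by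
    intro w
    rw [← co_conj]
    congr 1
    group
  have key' : ∀ w, co e (x * w * x⁻¹) = 1 ↔ (x⁻¹ * e * x) * w = w * (x⁻¹ * e * x) := by
    intro w
    rw [key, mul_inv_eq_one, mul_eq_left, co_eq_one]
  rcases X.ns _ (X.cj_E' he x) with h | h
  · left
    intro w hw
    exact (key' w).2 (h w hw)
  · right
    intro w hw hw'
    exact h w hw ((key' w).1 hw')

/-- the value at a point does not change modulo the centre of `E` -/
theorem co_right {e t z : K} (he : e ∈ E) (hz : z ∈ W ⊔ V₂) : co e (t * z) = co e t := by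
  have h1 : co e z = 1 := co_eq_one.2 (X.cZ hz he)
  rw [co_mul_right (by rw [h1]; exact one_mem _), h1, mul_one]

theorem co_left {e t z : K} (ht : t ∈ E) (hz : z ∈ W ⊔ V₂) : co (e * z) t = co e t := by
  have h1 : co z t = 1 := co_eq_one.2 (X.cZ hz ht).symm
  rw [co_mul_left (by rw [h1]; exact one_mem _), h1, mul_one]

theorem hN' {n w : K} (hn : n ∈ N) (hw : w ∈ W₂) : ∃ z ∈ W ⊔ V₂, n * w * n⁻¹ = w * z := by
  have := X.nZ
  refine ⟨w⁻¹ * (n * w * n⁻¹), ?_, by group⟩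
  have h1 := this.conj_mem _ (X.hN n hn w hw) w⁻¹
  have e : w⁻¹ * (n * w * n⁻¹ * w⁻¹) * w⁻¹⁻¹ = w⁻¹ * (n * w * n⁻¹) := by group
  rwa [e] at h1

theorem hNx {x y w : K} (h : y⁻¹ * x ∈ N) (hw : w ∈ W₂) : ∃ z ∈ W ⊔ V₂, x * w * x⁻¹ = (y * w * y⁻¹) * z := by
  have := X.nZ
  obtain ⟨z, hz, hz'⟩ := X.hN' h hw
  refine ⟨y * z * y⁻¹, this.conj_mem z hz y, ?_⟩
  calc x * w * x⁻¹ = y * ((y⁻¹ * x) * w * (y⁻¹ * x)⁻¹) * y⁻¹ := by group
    _ = y * (w * z) * y⁻¹ := by rw [hz']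
    _ = _ := by group

/-- `β(w, w') = [w, x w' x⁻¹]`: independent of the pair of points. -/
theorem beta_indep {x : K} (hx : x ∉ N) {y t : K} (hyt : y⁻¹ * t ∉ N) {w w' : K} (hw : w ∈ W₂) (hw' : w' ∈ W₂) :
    co (y * w * y⁻¹) (t * w' * t⁻¹) = co w (x * w' * x⁻¹) := by
  have h1 : co (y * w * y⁻¹) (t * w' * t⁻¹) = co w ((y⁻¹ * t) * w' * (y⁻¹ * t)⁻¹) := by
    have h2 : co w ((y⁻¹ * t) * w' * (y⁻¹ * t)⁻¹) ∈ center K := X.cmxc (X.W2E hw) _ hw'
    rw [← co_conj_cen (g := y) h2]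
    congr 1
    group
  rw [h1]
  set s := y⁻¹ * t with hs
  obtain ⟨a, ha, has⟩ := X.tr x hx s hyt
  obtain ⟨z, hz, hz'⟩ := X.hNx (x := a * x) (y := s) has hw'
  have h3 : co w (s * w' * s⁻¹) = co w ((a * x) * w' * (a * x)⁻¹) := by
    rw [hz', X.co_right (X.W2E hw) hz]
  rw [h3]
  have h4 : co w ((a * x) * w' * (a * x)⁻¹) = co (a⁻¹ * w * a⁻¹⁻¹) (x * w' * x⁻¹) := by
    have h5 : co w ((a * x) * w' * (a * x)⁻¹) ∈ center K := X.cmxc (X.W2E hw) _ hw'
    rw [← co_conj_cen (g := a⁻¹) h5]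
    congr 1
    group
  rw [h4]
  obtain ⟨z', hz1, hz2⟩ := X.hN' (N.inv_mem (X.AN ha)) hw
  rw [hz2, X.co_left (X.memx x hw') hz1]

theorem mem_sq {v : K} (hv : v ∈ V₂) : v * v = 1 := X.sq v (X.V2W hv)

theorem beta_symm {x : K} (hx : x ∉ N) {w w' : K} (hw : w ∈ W₂) (hw' : w' ∈ W₂) :
    co w (x * w' * x⁻¹) = co w' (x * w * x⁻¹) := by
  have h1 : co (x * w * x⁻¹) (1 * w' * 1⁻¹) = co w (x * w' * x⁻¹) := by
    refine X.beta_indep hx ?_ hw hw'
    rw [mul_one, inv_mem_iff]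
    exact hx
  rw [one_mul, inv_one, mul_one] at h1
  rw [← h1, ← co_inv]
  exact inv_eq_of_mul_eq_one_left (X.mem_sq (X.cmx (X.W2E hw') x hw))

theorem four_set {b₁ b₂ v : K} (h1 : b₁ ∈ V₂) (h2 : b₂ ∈ V₂) (hn1 : b₁ ≠ 1) (hn2 : b₂ ≠ 1) (h12 : b₁ * b₂ ≠ 1)
    (hv : v ∈ V₂) : v = 1 ∨ v = b₁ ∨ v = b₂ ∨ v = b₁ * b₂ := by
  classical
  have hfin : Finite V₂ := Nat.finite_of_card_ne_zero (by rw [X.cardV]; norm_num)
  have : Fintype V₂ := Fintype.ofFinite V₂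
  have hcard : Fintype.card V₂ = 4 := by rw [← Nat.card_eq_fintype_card, X.cardV]
  have hset : ({(1 : V₂), ⟨b₁, h1⟩, ⟨b₂, h2⟩, ⟨b₁ * b₂, V₂.mul_mem h1 h2⟩} : Finset V₂) = Finset.univ := by
    apply Finset.eq_univ_of_card
    rw [hcard, Finset.card_insert_of_notMem, Finset.card_insert_of_notMem, Finset.card_insert_of_notMem,
      Finset.card_singleton]
    · rw [Finset.mem_singleton, Subtype.mk.injEq]
      intro h
      exact hn1 (mul_eq_right.1 h.symm)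
    · rw [Finset.mem_insert, Finset.mem_singleton, not_or, Subtype.mk.injEq, Subtype.mk.injEq]
      refine ⟨fun h => h12 ?_, fun h => hn2 (mul_eq_left.1 h.symm)⟩
      rw [h]
      exact X.mem_sq h2
    · rw [Finset.mem_insert, Finset.mem_insert, Finset.mem_singleton, not_or, not_or]
      refine ⟨fun h => hn1 ?_, fun h => hn2 ?_, fun h => h12 ?_⟩
      · exact (congrArg Subtype.val h).symm
      · exact (congrArg Subtype.val h).symm
      · exact (congrArg Subtype.val h).symm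
  have h3 : (⟨v, hv⟩ : V₂) ∈ (Finset.univ : Finset V₂) := Finset.mem_univ _
  rw [← hset, Finset.mem_insert, Finset.mem_insert, Finset.mem_insert, Finset.mem_singleton] at h3
  rcases h3 with h | h | h | h
  · exact Or.inl (congrArg Subtype.val h)
  · exact Or.inr (Or.inl (congrArg Subtype.val h))
  · exact Or.inr (Or.inr (Or.inl (congrArg Subtype.val h)))
  · exact Or.inr (Or.inr (Or.inr (congrArg Subtype.val h)))

/-- `[a, y] ∈ W` for `y ∈ (A ∩ E) W`, `a ∈ A`. -/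
theorem co_A {y a : K} (hy : y ∈ (A ⊓ E) ⊔ W) (ha : a ∈ A) : ∃ v ∈ W, a * y * a⁻¹ = v * y := by
  have := X.nW
  obtain ⟨c, hc, w, hw, rfl⟩ := mem_sup_of_normal_right.1 hy
  refine ⟨c * (a * w * a⁻¹ * w⁻¹) * c⁻¹, X.nW.conj_mem _ (W.mul_mem (X.nW.conj_mem w hw a) (W.inv_mem hw)) c, ?_⟩
  have h1 := X.comA ha hc.1
  calc a * (c * w) * a⁻¹ = (a * c) * w * a⁻¹ := by group
    _ = (c * a) * w * a⁻¹ := by rw [h1]
    _ = _ := by group

/-- the commutator with the second factor conjugated by an element of `A` -/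
theorem co_cA {c a u : K} (hc : c ∈ A ⊓ E) (ha : a ∈ A) (h : co c u ∈ center K) :
    co c (a * u * a⁻¹) = co c u := by
  have h1 : a * c * a⁻¹ = c := by
    rw [X.comA ha hc.1, mul_inv_cancel_right]
  have h2 := co_conj_cen (g := a) h
  rwa [h1] at h2

/-- The non-degenerate case is impossible. -/
theorem beta_one {x : K} (hx : x ∉ N) {w₀ w₀' : K} (hw₀ : w₀ ∈ W₂) (hw₀' : w₀' ∈ W₂) :
    co w₀ (x * w₀' * x⁻¹) = 1 := by
  by_contra hne
  -- non-singularity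
  have hns0 : ∀ w ∈ W₂, co w₀ (x * w * x⁻¹) = 1 → w ∈ V₂ := by
    rcases X.nsx (X.W2E hw₀) x with h | h
    · exact absurd (h w₀' hw₀') hne
    · exact h
  have hns : ∀ w ∈ W₂, w ∉ V₂ → ∀ w' ∈ W₂, co w (x * w' * x⁻¹) = 1 → w' ∈ V₂ := by
    intro w hw hwV
    rcases X.nsx (X.W2E hw) x with h | h
    · exfalso
      apply hwV
      apply hns0 w hw
      rw [X.beta_symm hx hw₀ hw]
      exact h w₀ hw₀
    · exact h
  obtain ⟨w₁, hw₁, w₂, hw₂, hn₁, hn₂, hn₁₂, -⟩ := four (A := W₂) (D := V₂)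
    (fun a ha => by rw [X.sq a ha]; exact one_mem _) X.idx
  obtain ⟨a, ha, b, hb, haE, hbE, habE, -⟩ := four (A := A) (D := A ⊓ E)
    (fun a ha => by rw [X.sqA a ha]; exact one_mem _) X.a4
  have haE' : a ∉ E := fun h => haE ⟨ha, h⟩
  have hbE' : b ∉ E := fun h => hbE ⟨hb, h⟩
  have habE' : a * b ∉ E := fun h => habE ⟨A.mul_mem ha hb, h⟩
  have hw₃ : w₁ * w₂ ∈ W₂ := W₂.mul_mem hw₁ hw₂
  -- the form
  set β : K → K → K := fun w w' => co w (x * w' * x⁻¹) with hβ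
  have βV : ∀ w ∈ W₂, ∀ w' ∈ W₂, β w w' ∈ V₂ := fun w hw w' hw' => X.cmx (X.W2E hw) x hw'
  have βc : ∀ w ∈ W₂, ∀ w' ∈ W₂, β w w' ∈ center K := fun w hw w' hw' => X.cV2 (βV w hw w' hw')
  have βs : ∀ w ∈ W₂, ∀ w' ∈ W₂, β w w' * β w w' = 1 := fun w hw w' hw' => X.mem_sq (βV w hw w' hw')
  have βr : ∀ w ∈ W₂, ∀ u ∈ W₂, ∀ v ∈ W₂, β w (u * v) = β w u * β w v := by
    intro w hw u hu v hv
    have e : x * (u * v) * x⁻¹ = (x * u * x⁻¹) * (x * v * x⁻¹) := by group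
    show co w (x * (u * v) * x⁻¹) = _
    rw [e]
    exact co_mul_right (βc w hw v hv)
  have βy : ∀ w ∈ W₂, ∀ w' ∈ W₂, β w w' = β w' w := fun w hw w' hw' => X.beta_symm hx hw hw'
  have βi : ∀ y t : K, y⁻¹ * t ∉ N → ∀ w ∈ W₂, ∀ w' ∈ W₂, co (y * w * y⁻¹) (t * w' * t⁻¹) = β w w' :=
    fun y t hyt w hw w' hw' => X.beta_indep hx hyt hw hw'
  -- β₁₁ β₁₂ β₂₂ = 1
  have b11 : β w₁ w₁ ≠ 1 := fun h => hn₁ (hns w₁ hw₁ hn₁ w₁ hw₁ h)
  have b12 : β w₁ w₂ ≠ 1 := fun h => hn₂ (hns w₁ hw₁ hn₁ w₂ hw₂ h)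
  have b13 : β w₁ w₁ * β w₁ w₂ ≠ 1 := by
    rw [← βr w₁ hw₁ w₁ hw₁ w₂ hw₂]
    exact fun h => hn₁₂ (hns w₁ hw₁ hn₁ _ hw₃ h)
  have b22 : β w₂ w₂ ≠ 1 := fun h => hn₂ (hns w₂ hw₂ hn₂ w₂ hw₂ h)
  have b23 : β w₁ w₂ * β w₂ w₂ ≠ 1 := by
    rw [βy w₁ hw₁ w₂ hw₂, ← βr w₂ hw₂ w₁ hw₁ w₂ hw₂]
    exact fun h => hn₁₂ (hns w₂ hw₂ hn₂ _ hw₃ h)
  have b33 : β (w₁ * w₂) (w₁ * w₂) ≠ 1 := fun h => hn₁₂ (hns _ hw₃ hn₁₂ _ hw₃ h)
  have e33 : β (w₁ * w₂) (w₁ * w₂) = β w₁ w₁ * β w₂ w₂ := by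
    rw [βr _ hw₃ w₁ hw₁ w₂ hw₂, βy _ hw₃ w₁ hw₁, βy _ hw₃ w₂ hw₂, βr w₁ hw₁ w₁ hw₁ w₂ hw₂,
      βr w₂ hw₂ w₁ hw₁ w₂ hw₂, βy w₂ hw₂ w₁ hw₁]
    calc β w₁ w₁ * β w₁ w₂ * (β w₁ w₂ * β w₂ w₂) = β w₁ w₁ * (β w₁ w₂ * β w₁ w₂) * β w₂ w₂ := by group
      _ = _ := by rw [βs w₁ hw₁ w₂ hw₂, mul_one]
  have hb22 : β w₂ w₂ = β w₁ w₁ * β w₁ w₂ := by
    rcases X.four_set (βV w₁ hw₁ w₁ hw₁) (βV w₁ hw₁ w₂ hw₂) b11 b12 b13 (βV w₂ hw₂ w₂ hw₂) with h | h | h | h
    · exact absurd h b22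
    · exfalso
      apply b33
      rw [e33, h]
      exact βs w₁ hw₁ w₁ hw₁
    · exfalso
      apply b23
      rw [h]
      exact βs w₁ hw₁ w₂ hw₂
    · exact h
  -- the element y
  set u₁ : K := x * w₁ * x⁻¹ with hu₁
  set u₂ : K := a * (x * w₂ * x⁻¹) * a⁻¹ with hu₂
  set u₃ : K := b * (x * (w₁ * w₂) * x⁻¹) * b⁻¹ with hu₃
  have eu₂ : u₂ = (a * x) * w₂ * (a * x)⁻¹ := by rw [hu₂]; group
  have eu₃ : u₃ = (b * x) * (w₁ * w₂) * (b * x)⁻¹ := by rw [hu₃]; group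
  have hsqx : ∀ t : K, ∀ w ∈ W₂, (t * w * t⁻¹) * (t * w * t⁻¹) = 1 := by
    intro t w hw
    calc (t * w * t⁻¹) * (t * w * t⁻¹) = t * (w * w) * t⁻¹ := by group
      _ = 1 := by rw [X.sq w hw]; group
  have p12 : x⁻¹ * (a * x) ∉ N := fun h => haE' (X.reg x hx a ha h)
  have p13 : x⁻¹ * (b * x) ∉ N := fun h => hbE' (X.reg x hx b hb h)
  have p14 : x⁻¹ * ((a * b) * x) ∉ N := fun h => habE' (X.reg x hx _ (A.mul_mem ha hb) h)
  have hainv : a⁻¹ = a := inv_eq_of_mul_eq_one_left (X.sqA a ha)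
  have p23 : (a * x)⁻¹ * (b * x) ∉ N := by
    have e : (a * x)⁻¹ * (b * x) = x⁻¹ * ((a⁻¹ * b) * x) := by group
    rw [e, hainv]
    exact p14
  have c12 : co u₁ u₂ = β w₁ w₂ := by rw [hu₁, eu₂]; exact βi x (a * x) p12 w₁ hw₁ w₂ hw₂
  have c13 : co u₁ u₃ = β w₁ (w₁ * w₂) := by rw [hu₁, eu₃]; exact βi x (b * x) p13 w₁ hw₁ _ hw₃
  have c23 : co u₂ u₃ = β w₂ (w₁ * w₂) := by rw [eu₂, eu₃]; exact βi (a * x) (b * x) p23 w₂ hw₂ _ hw₃
  have hyE : u₁ * u₂ * u₃ ∈ E := by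
    rw [hu₁, eu₂, eu₃]
    exact mul_mem (mul_mem (X.memx _ hw₁) (X.memx _ hw₂)) (X.memx _ hw₃)
  have hy2 : (u₁ * u₂ * u₃) * (u₁ * u₂ * u₃) = 1 := by
    rw [sq_three (βc w₁ hw₁ w₂ hw₂) (βc w₁ hw₁ _ hw₃) (βc w₂ hw₂ _ hw₃) (hsqx x w₁ hw₁)
      (by rw [eu₂]; exact hsqx _ w₂ hw₂) (by rw [eu₃]; exact hsqx _ _ hw₃) c12 c13 c23,
      βr w₁ hw₁ w₁ hw₁ w₂ hw₂, βr w₂ hw₂ w₁ hw₁ w₂ hw₂, βy w₂ hw₂ w₁ hw₁, hb22]
    have hc : β w₁ w₁ * β w₁ w₂ = β w₁ w₂ * β w₁ w₁ := mem_center_iff.1 (βc w₁ hw₁ w₂ hw₂) _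
    set p := β w₁ w₁ with hp
    set q := β w₁ w₂ with hq
    have hpp : p * p = 1 := βs w₁ hw₁ w₁ hw₁
    have hqq : q * q = 1 := βs w₁ hw₁ w₂ hw₂
    calc q * (p * q) * (q * (p * q)) = q * p * (q * q) * p * q := by group
      _ = q * (p * p) * q := by rw [hqq]; group
      _ = 1 := by rw [hpp, mul_one, hqq]
  have hyc : ∀ c ∈ A ⊓ E, (u₁ * u₂ * u₃) * c = c * (u₁ * u₂ * u₃) := by
    intro c hc
    have g1 : ∀ w ∈ W₂, co c (x * w * x⁻¹) ∈ center K := fun w hw => X.cmxc hc.2 x hw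
    have h1 : co c (u₁ * u₂ * u₃) = 1 := by
      have e2 : co c u₂ = co c (x * w₂ * x⁻¹) := X.co_cA hc ha (g1 w₂ hw₂)
      have e3 : co c u₃ = co c (x * (w₁ * w₂) * x⁻¹) := X.co_cA hc hb (g1 _ hw₃)
      have e4 : co c (x * (w₁ * w₂) * x⁻¹) = co c (x * w₁ * x⁻¹) * co c (x * w₂ * x⁻¹) := by
        have e : x * (w₁ * w₂) * x⁻¹ = (x * w₁ * x⁻¹) * (x * w₂ * x⁻¹) := by group
        rw [e]
        exact co_mul_right (g1 w₂ hw₂)
      rw [co_mul_right (by rw [e3]; exact g1 _ hw₃), co_mul_right (by rw [e2]; exact g1 _ hw₂), e2, e3, e4]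
      set p := co c (x * w₁ * x⁻¹) with hp
      set q := co c (x * w₂ * x⁻¹) with hq
      have hpp : p * p = 1 := X.mem_sq (X.cmx hc.2 x hw₁)
      have hqq : q * q = 1 := X.mem_sq (X.cmx hc.2 x hw₂)
      have hpq : p * q = q * p := mem_center_iff.1 (g1 w₂ hw₂) p
      calc p * q * (p * q) = p * (q * p) * q := by group
        _ = (p * p) * (q * q) := by rw [← hpq]; group
        _ = 1 := by rw [hpp, hqq, mul_one]
    exact (co_eq_one.1 h1).symm
  have hyA := X.mx _ hyE hy2 hyc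
  obtain ⟨v, hv, hv'⟩ := X.co_A hyA ha
  -- compare [u₁, y] and [u₁, a y a⁻¹]
  have hu₁E : u₁ ∈ E := X.memx x hw₁
  have k0 : co u₁ (a * (u₁ * u₂ * u₃) * a⁻¹) = co u₁ (u₁ * u₂ * u₃) := by
    rw [hv']
    have e1 : v * (u₁ * u₂ * u₃) = (u₁ * u₂ * u₃) * v := (X.cW _ hyE v hv).symm
    rw [e1, X.co_right hu₁E (mem_sup_left hv)]
  have k1 : co u₁ (u₁ * u₂ * u₃) = β w₁ w₂ * β w₁ (w₁ * w₂) := by
    rw [co_mul_right (by rw [c13]; exact βc _ hw₁ _ hw₃), co_mul_right (by rw [c12]; exact βc _ hw₁ _ hw₂),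
      co_self, one_mul, c12, c13]
  have k2 : co u₁ (a * (u₁ * u₂ * u₃) * a⁻¹) = β w₁ w₁ * β w₁ (w₁ * w₂) := by
    have e1 : a * (u₁ * u₂ * u₃) * a⁻¹ =
        ((a * x) * w₁ * (a * x)⁻¹) * (x * w₂ * x⁻¹) * (((a * b) * x) * (w₁ * w₂) * ((a * b) * x)⁻¹) := by
      have e2 : a * u₂ * a⁻¹ = x * w₂ * x⁻¹ := by
        rw [hu₂]
        calc a * (a * (x * w₂ * x⁻¹) * a⁻¹) * a⁻¹ = (a * a) * (x * w₂ * x⁻¹) * (a * a)⁻¹ := by group
          _ = _ := by rw [X.sqA a ha]; group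
      calc a * (u₁ * u₂ * u₃) * a⁻¹ = (a * u₁ * a⁻¹) * (a * u₂ * a⁻¹) * (a * u₃ * a⁻¹) := by group
        _ = _ := by
          rw [e2, hu₁, hu₃]
          group
    have d1 : co u₁ ((a * x) * w₁ * (a * x)⁻¹) = β w₁ w₁ := βi x (a * x) p12 w₁ hw₁ w₁ hw₁
    have d2 : co u₁ (x * w₂ * x⁻¹) = 1 := by
      rw [co_eq_one, hu₁]
      calc x * w₁ * x⁻¹ * (x * w₂ * x⁻¹) = x * (w₁ * w₂) * x⁻¹ := by group
        _ = x * (w₂ * w₁) * x⁻¹ := by rw [X.comW2 hw₁ hw₂]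
        _ = _ := by group
    have d3 : co u₁ (((a * b) * x) * (w₁ * w₂) * ((a * b) * x)⁻¹) = β w₁ (w₁ * w₂) :=
      βi x ((a * b) * x) p14 w₁ hw₁ _ hw₃
    rw [e1, co_mul_right (by rw [d3]; exact βc _ hw₁ _ hw₃), co_mul_right (by rw [d2]; exact one_mem _), d1, d2,
      mul_one, d3]
  have k3 : β w₁ w₁ = β w₁ w₂ := by
    have := k2.symm.trans (k0.trans k1)
    exact mul_right_cancel this
  apply b13
  rw [k3]
  exact βs w₁ hw₁ w₂ hw₂

/-- `[a, x w x⁻¹]` is fixed by `A` modulo `W`. -/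
theorem quad {x : K} (hx : x ∉ N) {w a b : K} (hw : w ∈ W₂) (ha : a ∈ A) (hb : b ∈ A) :
    ∃ v ∈ W, b * (a * (x * w * x⁻¹) * a⁻¹ * (x * w * x⁻¹)⁻¹) * b⁻¹ =
      v * (a * (x * w * x⁻¹) * a⁻¹ * (x * w * x⁻¹)⁻¹) := by
  set u := x * w * x⁻¹ with hu
  have huE : u ∈ E := X.memx x hw
  have hauE : a * u * a⁻¹ ∈ E := X.cj_E huE a
  have hdE : a * u * a⁻¹ * u⁻¹ ∈ E := mul_mem hauE (inv_mem huE)
  have huu : u * u = 1 := by
    rw [hu]
    calc (x * w * x⁻¹) * (x * w * x⁻¹) = x * (w * w) * x⁻¹ := by group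
      _ = 1 := by rw [X.sq w hw]; group
  have huc : co (a * u * a⁻¹) u = 1 := by
    by_cases haE : a ∈ E
    · have h1 : co a u ∈ center K := X.cmxc haE x hw
      have h2 : a * u * a⁻¹ = co a u * u := by
        unfold co
        group
      rw [h2, co_eq_one]
      have h3 := mem_center_iff.1 h1 u
      calc co a u * u * u = (co a u * u) * u := by group
        _ = (u * co a u) * u := by rw [h3]
        _ = u * (co a u * u) := by group
    · have e : a * u * a⁻¹ = (a * x) * w * (a * x)⁻¹ := by rw [hu]; group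
      rw [e, hu]
      have p21 : (a * x)⁻¹ * x ∉ N := by
        intro h
        apply haE
        have h1 : x⁻¹ * (a⁻¹ * x) ∈ N := by
          have e2 : x⁻¹ * (a⁻¹ * x) = (a * x)⁻¹ * x := by group
          rwa [e2]
        have h2 := X.reg x hx a⁻¹ (A.inv_mem ha) h1
        exact inv_mem_iff.1 h2
      rw [X.beta_indep hx p21 hw hw]
      exact X.beta_one hx hw hw
  have hd2 : (a * u * a⁻¹ * u⁻¹) * (a * u * a⁻¹ * u⁻¹) = 1 := by
    have h1 := co_eq_one.1 huc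
    have hui : u⁻¹ = u := inv_eq_of_mul_eq_one_left huu
    rw [hui]
    calc a * u * a⁻¹ * u * (a * u * a⁻¹ * u) = (a * u * a⁻¹ * u) * (a * u * a⁻¹) * u := by group
      _ = (u * (a * u * a⁻¹)) * (a * u * a⁻¹) * u := by rw [h1]
      _ = u * (a * (u * u) * a⁻¹) * u := by group
      _ = 1 := by rw [huu, mul_one, mul_inv_cancel, mul_one, huu]
  have hdc : ∀ c ∈ A ⊓ E, (a * u * a⁻¹ * u⁻¹) * c = c * (a * u * a⁻¹ * u⁻¹) := by
    intro c hc
    have hui : u⁻¹ = u := inv_eq_of_mul_eq_one_left huu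
    have h1 : co c u ∈ center K := X.cmxc hc.2 x hw
    have h2 : co c (a * u * a⁻¹) = co c u := X.co_cA hc ha h1
    have h3 : co c (a * u * a⁻¹ * u⁻¹) = 1 := by
      rw [hui, co_mul_right h1, h2]
      exact X.mem_sq (X.cmx hc.2 x hw)
    exact (co_eq_one.1 h3).symm
  exact X.co_A (X.mx _ hdE hd2 hdc) hb

theorem co_Z {y t w w' : K} (hw : w ∈ W₂) (hw' : w' ∈ W₂) :
    co (y * w * y⁻¹) (t * w' * t⁻¹) ∈ W ⊔ V₂ := mem_sup_right (X.cmx (X.memx y hw) t hw')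

/-- **The end of TORUS, `k = 2`.** -/
theorem main [Finite K] (y : K) {w : K} (hw : w ∈ W₂) : y * w * y⁻¹ * w⁻¹ ∈ W ⊔ V₂ := by
  classical
  by_cases hN : ∀ x : K, x ∈ N
  · exact X.hN y (hN y) w hw
  push Not at hN
  obtain ⟨x, hx⟩ := hN
  have nZ := X.nZ
  set Z := W ⊔ V₂ with hZ
  set R : Subgroup (K ⧸ Z) := normalClosure ((QuotientGroup.mk' Z) '' (W₂ : Set K)) with hR
  have hconj : ∀ q ∈ Group.conjugatesOfSet ((QuotientGroup.mk' Z) '' (W₂ : Set K)),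
      ∃ t : K, ∃ v ∈ W₂, q = ((t * v * t⁻¹ : K) : K ⧸ Z) := by
    intro q hq
    obtain ⟨q', hq', hc⟩ := Group.mem_conjugatesOfSet_iff.1 hq
    obtain ⟨v, hv, rfl⟩ := hq'
    obtain ⟨c, hc⟩ := isConj_iff.1 hc
    obtain ⟨t, rfl⟩ := QuotientGroup.mk_surjective c
    exact ⟨t, v, hv, hc.symm⟩
  have hcomm : ∀ q ∈ Group.conjugatesOfSet ((QuotientGroup.mk' Z) '' (W₂ : Set K)),
      ∀ q' ∈ Group.conjugatesOfSet ((QuotientGroup.mk' Z) '' (W₂ : Set K)), q * q' = q' * q := by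
    intro q hq q' hq'
    obtain ⟨t, v, hv, rfl⟩ := hconj q hq
    obtain ⟨t', v', hv', rfl⟩ := hconj q' hq'
    have h1 : ((co (t * v * t⁻¹) (t' * v' * t'⁻¹) : K) : K ⧸ Z) = 1 :=
      (QuotientGroup.eq_one_iff _).2 (X.co_Z hv hv')
    have h2 : ((co (t * v * t⁻¹) (t' * v' * t'⁻¹) : K) : K ⧸ Z) =
      co ((t * v * t⁻¹ : K) : K ⧸ Z) ((t' * v' * t'⁻¹ : K) : K ⧸ Z) := rfl
    rw [h2] at h1
    exact co_eq_one.1 h1
  have hcommR : ∀ q ∈ R, ∀ q' ∈ R, q * q' = q' * q := by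
    have h1 : R ≤ centralizer (R : Set (K ⧸ Z)) := by
      have h2 : R ≤ centralizer (Group.conjugatesOfSet ((QuotientGroup.mk' Z) '' (W₂ : Set K))) := by
        refine (closure_le _).2 fun q hq => ?_
        rw [SetLike.mem_coe, mem_centralizer_iff]
        intro q' hq'
        exact hcomm q' hq' q hq
      refine (closure_le _).2 fun q hq => ?_
      rw [SetLike.mem_coe, mem_centralizer_iff]
      intro q' hq'
      exact (mem_centralizer_iff.1 (h2 hq') q hq).symm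
    intro q hq q' hq'
    exact (mem_centralizer_iff.1 (h1 hq) q' hq').symm
  let _ : CommGroup R := { (inferInstance : Group R) with
    mul_comm := fun p q => Subtype.ext (hcommR p p.2 q q.2) }
  have hmem : ∀ t : K, ((t * w * t⁻¹ : K) : K ⧸ Z) ∈ R := by
    intro t
    have h1 : ((w : K) : K ⧸ Z) ∈ R := subset_normalClosure ⟨w, hw, rfl⟩
    have h2 : R.Normal := normalClosure_normal
    exact h2.conj_mem _ h1 ((t : K) : K ⧸ Z)
  let f : K → R := fun t => ⟨((t * w * t⁻¹ : K) : K ⧸ Z), hmem t⟩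
  have hf : ∀ s t : K, s⁻¹ * t ∈ N → f s = f t := by
    intro s t hst
    obtain ⟨z, hz, hz'⟩ := X.hNx hst hw
    apply Subtype.ext
    show ((s * w * s⁻¹ : K) : K ⧸ Z) = ((t * w * t⁻¹ : K) : K ⧸ Z)
    rw [hz', QuotientGroup.eq]
    have e : (s * w * s⁻¹)⁻¹ * (s * w * s⁻¹ * z) = z := by group
    rw [e]
    exact hz
  let F : K ⧸ N → R := fun p => Quotient.liftOn' p f (fun s t hst => hf s t (QuotientGroup.leftRel_apply.1 hst))
  have hFf : ∀ t : K, F ((t : K) : K ⧸ N) = f t := fun t => rfl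
  have : Fintype (K ⧸ N) := Fintype.ofFinite _
  have nR : R.Normal := normalClosure_normal
  let φ : K → R →* R := fun g => (MulAut.conjNormal ((g : K) : K ⧸ Z) : MulAut R).toMonoidHom
  have hF : ∀ (g : K) (p : K ⧸ N), F (g • p) = φ g (F p) := by
    intro g p
    induction p using QuotientGroup.induction_on with
    | H t =>
      apply Subtype.ext
      show ((g * t * w * (g * t)⁻¹ : K) : K ⧸ Z) = ((g : K) : K ⧸ Z) * ((t * w * t⁻¹ : K) : K ⧸ Z) * ((g : K) : K ⧸ Z)⁻¹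
      have e : g * t * w * (g * t)⁻¹ = g * (t * w * t⁻¹) * g⁻¹ := by group
      rw [e]
      rfl
  obtain ⟨a, ha, b, hb, haE, hbE, habE, hcov⟩ := four (A := A) (D := A ⊓ E)
    (fun a ha => by rw [X.sqA a ha]; exact one_mem _) X.a4
  have haE' : a ∉ E := fun h => haE ⟨ha, h⟩
  have hbE' : b ∉ E := fun h => hbE ⟨hb, h⟩
  have habE' : a * b ∉ E := fun h => habE ⟨A.mul_mem ha hb, h⟩
  have pt : ∀ c ∈ A, c ∉ E → x⁻¹ * (c * x) ∉ N := fun c hc hcE h => hcE (X.reg x hx c hc h)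
  have hinv : ∀ c ∈ A, c⁻¹ = c := fun c hc => inv_eq_of_mul_eq_one_left (X.sqA c hc)
  have hne : ∀ c ∈ A, ∀ d ∈ A, c * d ∉ E → ((c * x : K) : K ⧸ N) ≠ ((d * x : K) : K ⧸ N) := by
    intro c hc d hd hcd h
    rw [QuotientGroup.eq] at h
    apply pt (c * d) (A.mul_mem hc hd) hcd
    have e : x⁻¹ * ((c * d) * x) = (c * x)⁻¹ * (d * x) := by
      rw [mul_inv_rev, hinv c hc]
      group
    rwa [e]
  have hset : (Finset.univ.erase ((1 : K) : K ⧸ N)) =
      {((1 * x : K) : K ⧸ N), ((a * x : K) : K ⧸ N), ((b * x : K) : K ⧸ N), ((a * b * x : K) : K ⧸ N)} := by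
    have hcx : ∀ c ∈ A, ((c * x : K) : K ⧸ N) ≠ ((1 : K) : K ⧸ N) := by
      intro c hc h
      have h1 := QuotientGroup.eq.1 h.symm
      rw [inv_one, one_mul] at h1
      exact hx ((N.mul_mem_cancel_left (X.AN hc)).1 h1)
    ext p
    rw [Finset.mem_erase]
    constructor
    · rintro ⟨hp, -⟩
      induction p using QuotientGroup.induction_on with
      | H t =>
        have ht : t ∉ N := by
          intro ht
          apply hp
          rw [QuotientGroup.eq, mul_one, inv_mem_iff]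
          exact ht
        obtain ⟨c, hc, hct⟩ := X.tr x hx t ht
        have e0 : ((t : K) : K ⧸ N) = ((c * x : K) : K ⧸ N) := QuotientGroup.eq.2 hct
        have key : ∀ d ∈ A, d * c ∈ A ⊓ E → ((t : K) : K ⧸ N) = ((d * x : K) : K ⧸ N) := by
          intro d hd hdc
          rw [e0, eq_comm, QuotientGroup.eq]
          have e : (d * x)⁻¹ * (c * x) = x⁻¹ * (d * c) * x := by
            rw [mul_inv_rev, hinv d hd]
            group
          rw [e]
          exact X.EN (X.cj_E' hdc.2 x)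
        rw [Finset.mem_insert, Finset.mem_insert, Finset.mem_insert, Finset.mem_singleton]
        rcases hcov c hc with h | h | h | h
        · left
          exact key 1 (one_mem _) (by rwa [one_mul])
        · right; left
          exact key a ha h
        · right; right; left
          exact key b hb h
        · right; right; right
          exact key (a * b) (A.mul_mem ha hb) h
    · intro hp
      rw [Finset.mem_insert, Finset.mem_insert, Finset.mem_insert, Finset.mem_singleton] at hp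
      refine ⟨?_, Finset.mem_univ _⟩
      rcases hp with rfl | rfl | rfl | rfl
      · exact hcx 1 (one_mem _)
      · exact hcx a ha
      · exact hcx b hb
      · exact hcx (a * b) (A.mul_mem ha hb)
  have hprod : ∏ p ∈ Finset.univ.erase ((1 : K) : K ⧸ N), F p = 1 := by
    rw [hset, Finset.prod_insert, Finset.prod_insert, Finset.prod_insert, Finset.prod_singleton]
    · rw [hFf, hFf, hFf, hFf]
      obtain ⟨v, hv, hv'⟩ := X.quad hx hw ha hb
      apply Subtype.ext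
      show ((1 * x * w * (1 * x)⁻¹ : K) : K ⧸ Z) * (((a * x * w * (a * x)⁻¹ : K) : K ⧸ Z) *
        (((b * x * w * (b * x)⁻¹ : K) : K ⧸ Z) * ((a * b * x * w * (a * b * x)⁻¹ : K) : K ⧸ Z))) = 1
      have cR : ∀ s t : K, ((s * w * s⁻¹ : K) : K ⧸ Z) * ((t * w * t⁻¹ : K) : K ⧸ Z) =
          ((t * w * t⁻¹ : K) : K ⧸ Z) * ((s * w * s⁻¹ : K) : K ⧸ Z) := fun s t =>
        hcommR _ (hmem s) _ (hmem t)
      have sR : ∀ s : K, ((s * w * s⁻¹ : K) : K ⧸ Z) * ((s * w * s⁻¹ : K) : K ⧸ Z) = 1 := by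
        intro s
        rw [← QuotientGroup.mk_mul]
        have e : s * w * s⁻¹ * (s * w * s⁻¹) = s * (w * w) * s⁻¹ := by group
        rw [e, X.sq w hw, mul_one, mul_inv_cancel]
        rfl
      have h1 : (((b * (a * (x * w * x⁻¹) * a⁻¹ * (x * w * x⁻¹)⁻¹) * b⁻¹) : K) : K ⧸ Z) =
          ((a * (x * w * x⁻¹) * a⁻¹ * (x * w * x⁻¹)⁻¹ : K) : K ⧸ Z) := by
        rw [hv', QuotientGroup.mk_mul, (QuotientGroup.eq_one_iff v).2 (mem_sup_left hv), one_mul]
      have e1 : b * (a * (x * w * x⁻¹) * a⁻¹ * (x * w * x⁻¹)⁻¹) * b⁻¹ =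
          (a * b * x * w * (a * b * x)⁻¹) * (b * x * w * (b * x)⁻¹)⁻¹ := by
        have hab := X.comA ha hb
        calc b * (a * (x * w * x⁻¹) * a⁻¹ * (x * w * x⁻¹)⁻¹) * b⁻¹ =
            ((b * a) * x * w * ((b * a) * x)⁻¹) * (b * x * w * (b * x)⁻¹)⁻¹ := by group
          _ = _ := by rw [← hab]
      have e2 : a * (x * w * x⁻¹) * a⁻¹ * (x * w * x⁻¹)⁻¹ =
          (a * x * w * (a * x)⁻¹) * (1 * x * w * (1 * x)⁻¹)⁻¹ := by group
      rw [e1, e2] at h1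
      set f1 := ((1 * x * w * (1 * x)⁻¹ : K) : K ⧸ Z) with hf1
      set f2 := ((a * x * w * (a * x)⁻¹ : K) : K ⧸ Z) with hf2
      set f3 := ((b * x * w * (b * x)⁻¹ : K) : K ⧸ Z) with hf3
      set f4 := ((a * b * x * w * (a * b * x)⁻¹ : K) : K ⧸ Z) with hf4
      have s1 : f1 * f1 = 1 := sR (1 * x)
      have s2 : f2 * f2 = 1 := sR (a * x)
      have s3 : f3 * f3 = 1 := sR (b * x)
      have c12 : f1 * f2 = f2 * f1 := cR (1 * x) (a * x)
      have c34 : f3 * f4 = f4 * f3 := cR (b * x) (a * b * x)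
      have h1' : f4 * f3⁻¹ = f2 * f1⁻¹ := h1
      rw [inv_eq_of_mul_eq_one_left s3, inv_eq_of_mul_eq_one_left s1] at h1'
      calc f1 * (f2 * (f3 * f4)) = (f1 * f2) * (f3 * f4) := by group
        _ = (f2 * f1) * (f4 * f3) := by rw [c12, c34]
        _ = (f2 * f1) * (f2 * f1) := by rw [h1']
        _ = (f2 * f1) * (f1 * f2) := by rw [c12]
        _ = f2 * (f1 * f1) * f2 := by group
        _ = 1 := by rw [s1, mul_one, s2]
    · rw [Finset.mem_singleton]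
      have h1 := hne b hb (a * b) (A.mul_mem ha hb) (by
        have e : b * (a * b) = a := by
          rw [X.comA ha hb, ← mul_assoc, X.sqA b hb, one_mul]
        rwa [e])
      exact h1
    · rw [Finset.mem_insert, Finset.mem_singleton, not_or]
      refine ⟨hne a ha b hb habE', hne a ha (a * b) (A.mul_mem ha hb) ?_⟩
      rw [← mul_assoc, X.sqA a ha, one_mul]
      exact hbE'
    · rw [Finset.mem_insert, Finset.mem_insert, Finset.mem_singleton, not_or, not_or]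
      refine ⟨hne 1 (one_mem _) a ha (by rwa [one_mul]), hne 1 (one_mem _) b hb (by rwa [one_mul]),
        hne 1 (one_mem _) (a * b) (A.mul_mem ha hb) (by rwa [one_mul])⟩
  have h1 := five_const N φ F hF hprod y
  rw [hFf, hFf] at h1
  have h2 : ((y * w * y⁻¹ : K) : K ⧸ Z) = ((1 * w * 1⁻¹ : K) : K ⧸ Z) := congrArg Subtype.val h1
  rw [one_mul, inv_one, mul_one] at h2
  have h3 : ((y * w * y⁻¹ * w⁻¹ : K) : K ⧸ Z) = 1 := by
    rw [QuotientGroup.mk_mul, h2, ← QuotientGroup.mk_mul, mul_inv_cancel]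
    rfl
  exact (QuotientGroup.eq_one_iff _).1 h3

end EndD

/-! ### the sharp form -/

/-- five points, sharp form: `F p ≡ F 1` modulo a `K`-invariant subgroup `D` without `N`-fixed points `≠ 1`. -/
theorem five_sharp {K : Type*} [Group K] (N : Subgroup K) [Fintype (K ⧸ N)] (h5 : Fintype.card (K ⧸ N) = 5)
    {M : Type*} [CommGroup M] (φ : K → M →* M) (F : K ⧸ N → M) (hF : ∀ (g : K) (p : K ⧸ N), F (g • p) = φ g (F p))
    (hsq : ∀ p, F p * F p = 1) (D : Subgroup M) (hD : ∀ p, F p * (F ((1 : K) : K ⧸ N))⁻¹ ∈ D)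
    (hfix : ∀ c ∈ D, (∀ n ∈ N, φ n c = c) → c = 1) (g : K) :
    F (g : K ⧸ N) = F ((1 : K) : K ⧸ N) := by
  classical
  set f₀ := F ((1 : K) : K ⧸ N) with hf₀
  set T := ∏ p, F p with hT
  have hTK : ∀ g : K, φ g T = T := by
    intro g
    rw [hT, map_prod]
    refine Finset.prod_bij (fun p _ => g • p) (fun _ _ => Finset.mem_univ _) (fun p _ q _ h => MulAction.injective g h)
      (fun q _ => ⟨g⁻¹ • q, Finset.mem_univ _, by simp⟩) (fun p _ => (hF g p).symm)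
  have hNf : ∀ n ∈ N, φ n f₀ = f₀ := by
    intro n hn
    rw [hf₀, ← hF, MulAction.Quotient.smul_coe]
    congr 1
    rw [QuotientGroup.eq]
    simpa using hn
  have hc : T * f₀⁻¹ ∈ D := by
    have h1 : ∏ p : K ⧸ N, (F p * f₀⁻¹) ∈ D := D.prod_mem fun p _ => hD p
    rw [Finset.prod_mul_distrib, Finset.prod_const, Finset.card_univ, h5, ← hT] at h1
    have h2 : f₀⁻¹ ^ 5 = f₀⁻¹ := by
      have h3 : f₀ * f₀ = 1 := hsq _
      have h4 : f₀⁻¹ = f₀ := inv_eq_of_mul_eq_one_left h3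
      rw [h4]
      calc f₀ ^ 5 = (f₀ * f₀) * (f₀ * f₀) * f₀ := by
            simp only [pow_succ, pow_zero, one_mul, mul_assoc]
        _ = f₀ := by rw [h3]; group
    rwa [h2] at h1
  have h1 : T * f₀⁻¹ = 1 := by
    refine hfix _ hc fun n hn => ?_
    rw [map_mul, map_inv, hTK, hNf n hn]
  have h2 : T = f₀ := mul_inv_eq_one.1 h1
  have e : ((g : K) : K ⧸ N) = g • ((1 : K) : K ⧸ N) := by
    rw [MulAction.Quotient.smul_coe]
    simp
  rw [e, hF, ← hf₀, ← h2, hTK]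

namespace EndD

variable {K : Type*} [Group K] {E W W₂ V₂ N A : Subgroup K} (X : EndD E W W₂ V₂ N A)

include X

/-- **The sharp end**: if `N` moves `W₂` inside `V₂` only, and `C_W(N) = 1`, `W ∩ V₂ = 1`, then `K` moves `W₂` inside
`V₂`: so `K` normalises `W₂`. -/
theorem sharp [Finite K] (h5 : N.index = 5) (hN2 : ∀ n ∈ N, ∀ w ∈ W₂, n * w * n⁻¹ * w⁻¹ ∈ V₂)
    (hWV : W ⊓ V₂ = ⊥) (hfix : ∀ c ∈ W, (∀ n ∈ N, n * c = c * n) → c = 1)
    (hWc : ∀ c ∈ W, ∀ d ∈ W, c * d = d * c)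
    (y : K) {w : K} (hw : w ∈ W₂) : y * w * y⁻¹ * w⁻¹ ∈ V₂ := by
  classical
  have nZ := X.nZ
  have nV : V₂.Normal := by
    constructor
    intro v hv g
    have h1 := mem_center_iff.1 (X.cV2 hv) g
    rw [h1, mul_inv_cancel_right]
    exact hv
  -- the commutative group
  set s : Set (K ⧸ V₂) := (QuotientGroup.mk' V₂) '' ((W : Set K) ∪ (W₂ : Set K)) with hs
  set R : Subgroup (K ⧸ V₂) := normalClosure s with hR
  have hconj : ∀ q ∈ Group.conjugatesOfSet s,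
      (∃ v ∈ W, q = ((v : K) : K ⧸ V₂)) ∨ ∃ t : K, ∃ v ∈ W₂, q = ((t * v * t⁻¹ : K) : K ⧸ V₂) := by
    intro q hq
    obtain ⟨q', hq', hc⟩ := Group.mem_conjugatesOfSet_iff.1 hq
    obtain ⟨v, hv, rfl⟩ := hq'
    obtain ⟨c, hc⟩ := isConj_iff.1 hc
    obtain ⟨t, rfl⟩ := QuotientGroup.mk_surjective c
    rcases hv with hv | hv
    · exact Or.inl ⟨t * v * t⁻¹, X.nW.conj_mem v hv t, hc.symm⟩
    · exact Or.inr ⟨t, v, hv, hc.symm⟩
  have hcomm : ∀ q ∈ Group.conjugatesOfSet s, ∀ q' ∈ Group.conjugatesOfSet s, q * q' = q' * q := by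
    intro q hq q' hq'
    rcases hconj q hq with ⟨v, hv, rfl⟩ | ⟨t, v, hv, rfl⟩ <;> rcases hconj q' hq' with ⟨v', hv', rfl⟩ | ⟨t', v', hv', rfl⟩
    · rw [← QuotientGroup.mk_mul, ← QuotientGroup.mk_mul, hWc v hv v' hv']
    · rw [← QuotientGroup.mk_mul, ← QuotientGroup.mk_mul, X.cW _ (X.memx t' hv') v hv]
    · rw [← QuotientGroup.mk_mul, ← QuotientGroup.mk_mul, X.cW _ (X.memx t hv) v' hv']
    · have h1 : ((co (t * v * t⁻¹) (t' * v' * t'⁻¹) : K) : K ⧸ V₂) = 1 :=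
        (QuotientGroup.eq_one_iff _).2 (X.cmx (X.memx t hv) t' hv')
      have h2 : ((co (t * v * t⁻¹) (t' * v' * t'⁻¹) : K) : K ⧸ V₂) =
        co ((t * v * t⁻¹ : K) : K ⧸ V₂) ((t' * v' * t'⁻¹ : K) : K ⧸ V₂) := rfl
      rw [h2] at h1
      exact co_eq_one.1 h1
  have hcommR : ∀ q ∈ R, ∀ q' ∈ R, q * q' = q' * q := by
    have h1 : R ≤ centralizer (R : Set (K ⧸ V₂)) := by
      have h2 : R ≤ centralizer (Group.conjugatesOfSet s) := by
        refine (closure_le _).2 fun q hq => ?_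
        rw [SetLike.mem_coe, mem_centralizer_iff]
        intro q' hq'
        exact hcomm q' hq' q hq
      refine (closure_le _).2 fun q hq => ?_
      rw [SetLike.mem_coe, mem_centralizer_iff]
      intro q' hq'
      exact (mem_centralizer_iff.1 (h2 hq') q hq).symm
    intro q hq q' hq'
    exact (mem_centralizer_iff.1 (h1 hq) q' hq').symm
  let _ : CommGroup R := { (inferInstance : Group R) with
    mul_comm := fun p q => Subtype.ext (hcommR p p.2 q q.2) }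
  have nR : R.Normal := normalClosure_normal
  have hmemW : ∀ c ∈ W, ((c : K) : K ⧸ V₂) ∈ R := fun c hc => subset_normalClosure ⟨c, Or.inl hc, rfl⟩
  have hmem : ∀ t : K, ((t * w * t⁻¹ : K) : K ⧸ V₂) ∈ R := fun t =>
    nR.conj_mem _ (subset_normalClosure ⟨w, Or.inr hw, rfl⟩) ((t : K) : K ⧸ V₂)
  let f : K → R := fun t => ⟨((t * w * t⁻¹ : K) : K ⧸ V₂), hmem t⟩
  have hf : ∀ s t : K, s⁻¹ * t ∈ N → f s = f t := by
    intro s t hst
    apply Subtype.ext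
    show ((s * w * s⁻¹ : K) : K ⧸ V₂) = ((t * w * t⁻¹ : K) : K ⧸ V₂)
    rw [eq_comm, QuotientGroup.eq]
    have h1 := hN2 _ hst w hw
    have h2 := nV.conj_mem _ h1 s
    have e : (t * w * t⁻¹)⁻¹ * (s * w * s⁻¹) = (s * ((s⁻¹ * t) * w * (s⁻¹ * t)⁻¹ * w⁻¹) * s⁻¹)⁻¹ := by
      have hww : w⁻¹ = w := inv_eq_of_mul_eq_one_left (X.sq w hw)
      have h3 := mem_center_iff.1 (X.cV2 h1)
      have h4 : s * ((s⁻¹ * t) * w * (s⁻¹ * t)⁻¹ * w⁻¹) * s⁻¹ = (s⁻¹ * t) * w * (s⁻¹ * t)⁻¹ * w⁻¹ := by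
        rw [h3 s, mul_inv_cancel_right]
      have h5 := h3 (t * w * t⁻¹)⁻¹
      have h6 : (t * w * t⁻¹) * (s * w * s⁻¹)⁻¹ = s * ((s⁻¹ * t) * w * (s⁻¹ * t)⁻¹ * w⁻¹) * s⁻¹ := by group
      have h7 : (s * w * s⁻¹) = (s * ((s⁻¹ * t) * w * (s⁻¹ * t)⁻¹ * w⁻¹) * s⁻¹)⁻¹ * (t * w * t⁻¹) := by
        rw [← h6]
        group
      rw [h7, h4]
      have h8 : ((s⁻¹ * t) * w * (s⁻¹ * t)⁻¹ * w⁻¹)⁻¹ * (t * w * t⁻¹) =
          (t * w * t⁻¹) * ((s⁻¹ * t) * w * (s⁻¹ * t)⁻¹ * w⁻¹)⁻¹ :=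
        (mem_center_iff.1 (inv_mem (X.cV2 h1)) _).symm
      rw [h8, inv_mul_cancel_left]
    rw [e]
    exact inv_mem h2
  let F : K ⧸ N → R := fun p => Quotient.liftOn' p f (fun s t hst => hf s t (QuotientGroup.leftRel_apply.1 hst))
  have hFf : ∀ t : K, F ((t : K) : K ⧸ N) = f t := fun t => rfl
  have : Fintype (K ⧸ N) := Fintype.ofFinite _
  have hcard : Fintype.card (K ⧸ N) = 5 := by
    rw [← Nat.card_eq_fintype_card, ← Subgroup.index_eq_card]
    exact h5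
  let φ : K → R →* R := fun g => (MulAut.conjNormal ((g : K) : K ⧸ V₂) : MulAut R).toMonoidHom
  have hφ : ∀ (g : K) (r : R), ((φ g r : R) : K ⧸ V₂) = ((g : K) : K ⧸ V₂) * (r : K ⧸ V₂) * ((g : K) : K ⧸ V₂)⁻¹ :=
    fun g r => rfl
  have hF : ∀ (g : K) (p : K ⧸ N), F (g • p) = φ g (F p) := by
    intro g p
    induction p using QuotientGroup.induction_on with
    | H t =>
      apply Subtype.ext
      show ((g * t * w * (g * t)⁻¹ : K) : K ⧸ V₂) =
        ((g : K) : K ⧸ V₂) * ((t * w * t⁻¹ : K) : K ⧸ V₂) * ((g : K) : K ⧸ V₂)⁻¹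
      have e : g * t * w * (g * t)⁻¹ = g * (t * w * t⁻¹) * g⁻¹ := by group
      rw [e]
      rfl
  let D : Subgroup R := (W.map (QuotientGroup.mk' V₂)).subgroupOf R
  have hDmem : ∀ r : R, r ∈ D ↔ ∃ c ∈ W, ((c : K) : K ⧸ V₂) = (r : K ⧸ V₂) := by
    intro r
    rw [mem_subgroupOf]
    rfl
  have key : F ((y : K) : K ⧸ N) = F ((1 : K) : K ⧸ N) := by
    refine five_sharp N hcard φ F hF ?_ D ?_ ?_ y
    · intro p
      induction p using QuotientGroup.induction_on with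
      | H t =>
        apply Subtype.ext
        show ((t * w * t⁻¹ : K) : K ⧸ V₂) * ((t * w * t⁻¹ : K) : K ⧸ V₂) = 1
        rw [← QuotientGroup.mk_mul]
        have e : t * w * t⁻¹ * (t * w * t⁻¹) = t * (w * w) * t⁻¹ := by group
        rw [e, X.sq w hw, mul_one, mul_inv_cancel]
        rfl
    · intro p
      induction p using QuotientGroup.induction_on with
      | H t =>
        rw [hDmem]
        have h1 := X.main t hw
        have := X.nW
        obtain ⟨c, hc, v, hv, hcv⟩ := mem_sup_of_normal_left.1 h1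
        refine ⟨c, hc, ?_⟩
        show ((c : K) : K ⧸ V₂) = ((t * w * t⁻¹ : K) : K ⧸ V₂) * ((1 * w * 1⁻¹ : K) : K ⧸ V₂)⁻¹
        rw [← QuotientGroup.mk_inv, ← QuotientGroup.mk_mul]
        have e : t * w * t⁻¹ * (1 * w * 1⁻¹)⁻¹ = c * v := by
          rw [hcv]
          group
        rw [e, QuotientGroup.mk_mul, (QuotientGroup.eq_one_iff v).2 hv, mul_one]
    · intro r hr hrn
      obtain ⟨c, hc, hcr⟩ := (hDmem r).1 hr
      have hc1 : c = 1 := by
        refine hfix c hc fun n hn => ?_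
        have h1 := congrArg Subtype.val (hrn n hn)
        rw [hφ, ← hcr] at h1
        have h2 : ((n * c * n⁻¹ * c⁻¹ : K) : K ⧸ V₂) = 1 := by
          have h3 : ((n * c * n⁻¹ : K) : K ⧸ V₂) = ((c : K) : K ⧸ V₂) := h1
          rw [QuotientGroup.mk_mul, h3, QuotientGroup.mk_inv, mul_inv_cancel]
        have h4 : n * c * n⁻¹ * c⁻¹ ∈ W ⊓ V₂ :=
          ⟨W.mul_mem (X.nW.conj_mem c hc n) (W.inv_mem hc), (QuotientGroup.eq_one_iff _).1 h2⟩
        rw [hWV, mem_bot] at h4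
        exact co_eq_one.1 h4
      apply Subtype.ext
      rw [← hcr, hc1]
      rfl
  rw [hFf, hFf] at key
  have h2 : ((y * w * y⁻¹ : K) : K ⧸ V₂) = ((1 * w * 1⁻¹ : K) : K ⧸ V₂) := congrArg Subtype.val key
  rw [one_mul, inv_one, mul_one] at h2
  have h3 : ((y * w * y⁻¹ * w⁻¹ : K) : K ⧸ V₂) = 1 := by
    rw [QuotientGroup.mk_mul, h2, ← QuotientGroup.mk_mul, mul_inv_cancel]
    rfl
  exact (QuotientGroup.eq_one_iff _).1 h3

end EndD

end Cfsg.Agent.Omega.OM.Lev.Low.Torus.End
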