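import Cfsg.Agent.Omega.OM.PB
import Cfsg.Agent.Omega.NO3S.ThmB.Best
import Cfsg.Agent.Omega.NO3S.OneLine.Abs

/-!
# (F1) (helper12 #22930): the members of `A(B)` and a block over `B`

`PB B L N N1 N0 q`, `A ∈ AA B`, `A` not in `E = C_B(N)`:

* `card_eq` : `|A| = |A ∩ C(N)| q`; `sup_mem` : `(A ∩ C(N)) N ∈ AA B`; `B_le` : `B = A E`;
* `inf_N` : `A ∩ N = N1`;
* `cent_inf` : `N ≤ W ≤ B`, `W` elementary abelian: `C_W(A ∩ C(N)) = N C_W(A)`;
* `AA_bau` : `AA (bau S) = AA S`.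
-/

set_option autoImplicit false

namespace Cfsg.Agent.Omega.OM.Lev.Low.Torus

open Subgroup Cfsg Cfsg.Agent.PLocal.ThompsonJ Cfsg.Agent.ZN.ChoiceBase
open Cfsg.Agent.PLocal.ElemAbSup
open Cfsg.Agent.ZN (bau jj zj)
open Cfsg.Agent.Omega.SQ1.Bau (mem_sup_comm card_sup_comm elem_comm elem_sq Mv mem_AA_of_comm)

universe u

variable {G : Type u} [Group G] [Finite G]

theorem AA_bau (S : Subgroup G) : AA (bau S) = AA S := by
  ext A
  rw [mem_AA_iff, mem_AA_iff, mm_bau]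
  constructor
  · rintro ⟨h1, h2, h3⟩
    exact ⟨h1, h2.trans (bau_le S), h3⟩
  · rintro ⟨h1, h2, h3⟩
    exact ⟨h1, (le_jj (mem_AA_iff.2 ⟨h1, h2, h3⟩)).trans (jj_le_bau S), h3⟩

namespace FOne

variable {B L N N1 N0 A W : Subgroup G} {q : ℕ}

/-- `B ∩ C(N)` -/
theorem card_inf_le (h : PB B L N N1 N0 q) (hA : A ≤ B) :
    Nat.card A ≤ Nat.card ↥(A ⊓ centralizer (N : Set G)) * q := by
  set E := B ⊓ centralizer (N : Set G) with hE
  have hn : B ≤ normalizer (E : Set G) := by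
    intro b hb
    refine mem_normalizer_of_cj_le ?_
    rintro _ ⟨x, hx, rfl⟩
    refine mem_inf.2 ⟨mul_mem (mul_mem hb hx.1) (inv_mem hb), mem_centralizer_iff.2 fun v hv => ?_⟩
    have h1 := mem_centralizer_iff.1 hx.2 (b⁻¹ * v * b⁻¹⁻¹) (h.Nn b⁻¹ (inv_mem (h.BL hb)) v hv)
    change v * (b * x * b⁻¹) = b * x * b⁻¹ * v
    calc v * (b * x * b⁻¹) = b * ((b⁻¹ * v * b⁻¹⁻¹) * x) * b⁻¹ := by group
      _ = b * (x * (b⁻¹ * v * b⁻¹⁻¹)) * b⁻¹ := by rw [h1]
      _ = _ := by group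
  have h1 : Nat.card A = Nat.card ↥(A ⊓ E) * E.relIndex A := by
    rw [← NO3S.ThmB.card_inf_relIndex (A := A) (C := E), mul_comm]
  have h2 : A ⊓ E = A ⊓ centralizer (N : Set G) := by
    rw [hE, ← inf_assoc, inf_eq_left.2 hA]
  have h3 : Nat.card E * E.relIndex B = Nat.card B := by
    have h4 := NO3S.ThmB.card_inf_relIndex (A := B) (C := E)
    rw [inf_eq_right.2 (inf_le_left : E ≤ B), mul_comm] at h4
    exact h4
  have h4 : E.relIndex B = q := by
    have h5 := h.cardB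
    rw [← h3] at h5
    have hp : 0 < Nat.card E := Nat.card_pos
    exact Nat.eq_of_mul_eq_mul_left hp (by rw [h5])
  have h5 : E.relIndex A ≤ E.relIndex B := by
    refine relIndex_le_of_le_right hA ?_
    rw [h4]
    have := h.one
    omega
  rw [h1, h2, ← h4]
  exact Nat.mul_le_mul_left _ h5

theorem inf_N (h : PB B L N N1 N0 q) (hA : A ∈ AA B) (hn : ¬ A ≤ centralizer (N : Set G)) : A ⊓ N = N1 := by
  have hAB := hA.2.1
  apply le_antisymm
  · rintro x ⟨hxA, hxN⟩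
    have hxN : x ∈ N := hxN
    obtain ⟨a, ha, hna⟩ : ∃ a ∈ A, a ∉ centralizer (N : Set G) := by
      by_contra hcon
      push Not at hcon
      exact hn hcon
    have hex : ∃ v ∈ N, a * v ≠ v * a := by
      by_contra hcon
      push Not at hcon
      exact hna (mem_centralizer_iff.2 fun v hv => (hcon v hv).symm)
    refine h.cent a (hAB ha) hex x hxN ?_
    rw [elem_comm hA.1 a ha x hxA, mul_inv_cancel_right, mul_inv_cancel]
    exact one_mem _
  · intro x hx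
    refine ⟨mem_AA_of_comm hA (h.NB (h.N1N hx)) (elem_sq h.el x (h.N1N hx)) fun a ha => ?_, h.N1N hx⟩
    exact h.N1c a (hAB ha) x hx

theorem card_sup_ge (h : PB B L N N1 N0 q) (hA : A ∈ AA B) (hn : ¬ A ≤ centralizer (N : Set G)) :
    Nat.card ↥(A ⊓ centralizer (N : Set G)) * q ≤ Nat.card ↥((A ⊓ centralizer (N : Set G)) ⊔ N) := by
  have h1 : ∀ a ∈ A ⊓ centralizer (N : Set G), ∀ b ∈ N, a * b = b * a := fun a ha b hb =>
    (mem_centralizer_iff.1 ha.2 b hb).symm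
  have h2 := card_sup_comm h1
  have h3 : A ⊓ centralizer (N : Set G) ⊓ N ≤ N1 := by
    rw [← inf_N h hA hn]
    exact inf_le_inf_right _ inf_le_left
  have h4 := Subgroup.card_le_of_le h3
  have hp : 0 < Nat.card ↥(A ⊓ centralizer (N : Set G) ⊓ N) := Nat.card_pos
  refine Nat.le_of_mul_le_mul_right ?_ hp
  rw [h2, h.card]
  calc Nat.card ↥(A ⊓ centralizer (N : Set G)) * q * Nat.card ↥(A ⊓ centralizer (N : Set G) ⊓ N)
      ≤ Nat.card ↥(A ⊓ centralizer (N : Set G)) * q * Nat.card N1 := Nat.mul_le_mul_left _ h4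
    _ = _ := by ring

theorem el_sup (h : PB B L N N1 N0 q) (hA : IsElementaryAbelian 2 A) :
    IsElementaryAbelian 2 (A ⊓ centralizer (N : Set G) ⊔ N) :=
  isElementaryAbelian_sup (isElementaryAbelian_mono hA inf_le_left) h.el fun v hv =>
    mem_centralizer_iff.2 fun _ ha => (mem_centralizer_iff.1 (mem_inf.1 ha).2 v hv).symm

theorem card_eq (h : PB B L N N1 N0 q) (hA : A ∈ AA B) (hn : ¬ A ≤ centralizer (N : Set G)) :
    Nat.card A = Nat.card ↥(A ⊓ centralizer (N : Set G)) * q := by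
  refine le_antisymm (card_inf_le h hA.2.1) ((card_sup_ge h hA hn).trans ?_)
  exact hA.2.2 _ (el_sup h hA.1) (sup_le (inf_le_left.trans hA.2.1) h.NB)

/-- `(A ∩ C(N)) N ∈ AA B` -/
theorem sup_mem (h : PB B L N N1 N0 q) (hA : A ∈ AA B) (hn : ¬ A ≤ centralizer (N : Set G)) :
    A ⊓ centralizer (N : Set G) ⊔ N ∈ AA B := by
  refine mem_AA_iff.2 ⟨el_sup h hA.1, sup_le (inf_le_left.trans hA.2.1) h.NB, ?_⟩
  rw [mm_eq hA, card_eq h hA hn]
  exact card_sup_ge h hA hn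

/-- `B = A C_B(N)` -/
theorem exists_mul (h : PB B L N N1 N0 q) (hA : A ∈ AA B) (hn : ¬ A ≤ centralizer (N : Set G)) {b : G} (hb : b ∈ B) :
    ∃ a ∈ A, ∃ e ∈ B ⊓ centralizer (N : Set G), b = a * e := by
  set E := B ⊓ centralizer (N : Set G) with hE
  have hAB := hA.2.1
  have hnE : A ≤ normalizer (E : Set G) := by
    intro b hb
    have hb := hAB hb
    refine mem_normalizer_of_cj_le ?_
    rintro _ ⟨x, hx, rfl⟩
    refine mem_inf.2 ⟨mul_mem (mul_mem hb hx.1) (inv_mem hb), mem_centralizer_iff.2 fun v hv => ?_⟩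
    have h1 := mem_centralizer_iff.1 hx.2 (b⁻¹ * v * b⁻¹⁻¹) (h.Nn b⁻¹ (inv_mem (h.BL hb)) v hv)
    change v * (b * x * b⁻¹) = b * x * b⁻¹ * v
    calc v * (b * x * b⁻¹) = b * ((b⁻¹ * v * b⁻¹⁻¹) * x) * b⁻¹ := by group
      _ = b * (x * (b⁻¹ * v * b⁻¹⁻¹)) * b⁻¹ := by rw [h1]
      _ = _ := by group
  have h1 := NO3S.OneLine.card_sup_norm hnE
  have h2 : A ⊓ E = A ⊓ centralizer (N : Set G) := by
    rw [hE, ← inf_assoc, inf_eq_left.2 hAB]
  rw [h2, card_eq h hA hn] at h1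
  have h3 : Nat.card B ≤ Nat.card ↥(A ⊔ E) := by
    have hp : 0 < Nat.card ↥(A ⊓ centralizer (N : Set G)) := Nat.card_pos
    refine Nat.le_of_mul_le_mul_right ?_ hp
    rw [h1, h.cardB]
    exact le_of_eq (by ring)
  have h4 : A ⊔ E = B := eq_of_le_of_card_ge (sup_le hAB inf_le_left) h3
  rw [← h4] at hb
  exact SQ1.Bau.mem_sup_norm hnE hb

/-- `C_W(A ∩ C(N)) = N C_W(A)` -/
theorem exists_cent (h : PB B L N N1 N0 q) (hA : A ∈ AA B) (hn : ¬ A ≤ centralizer (N : Set G))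
    (hW : IsElementaryAbelian 2 W) (hNW : N ≤ W) (hWB : W ≤ B) {x : G} (hx : x ∈ W)
    (hc : ∀ a ∈ A, (∀ v ∈ N, a * v = v * a) → a * x = x * a) :
    ∃ v ∈ N, ∃ c ∈ W, (∀ a ∈ A, a * c = c * a) ∧ x = v * c := by
  have hm := sup_mem h hA hn
  have h1 : x ∈ A ⊓ centralizer (N : Set G) ⊔ N := by
    refine mem_AA_of_comm hm (hWB hx) (elem_sq hW x hx) fun y hy => ?_
    have h2 : A ⊓ centralizer (N : Set G) ⊔ N ≤ centralizer ({x} : Set G) := by
      refine sup_le (fun a ha => mem_centralizer_iff.2 ?_) fun v hv => mem_centralizer_iff.2 ?_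
      · rintro _ rfl
        exact (hc a ha.1 fun v hv => (mem_centralizer_iff.1 ha.2 v hv).symm).symm
      · rintro _ rfl
        exact elem_comm hW _ hx v (hNW hv)
    exact (mem_centralizer_iff.1 (h2 hy) x rfl).symm
  obtain ⟨a, ha, v, hv, rfl⟩ := mem_sup_comm (A := A ⊓ centralizer (N : Set G)) (B := N)
    (fun a ha b hb => (mem_centralizer_iff.1 ha.2 b hb).symm) h1
  have haW : a ∈ W := by
    have := mul_mem hx (inv_mem (hNW hv))
    rwa [mul_inv_cancel_right] at this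
  exact ⟨v, hv, a, haW, fun b hb => elem_comm hA.1 b hb a ha.1, (mem_centralizer_iff.1 ha.2 v hv).symm⟩

end FOne

end Cfsg.Agent.Omega.OM.Lev.Low.Torus
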